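import Groth.Prelude.Def_W4c5qllcourbesmultMultCrv
import Mathlib.RingTheory.Polynomial.Basic
import Mathlib.LinearAlgebra.FreeModule.PID
import Mathlib.LinearAlgebra.Dual.Lemmas
import Mathlib.RingTheory.Finiteness.Basic
import Mathlib.RingTheory.DiscreteValuationRing.Basic
import Mathlib.RingTheory.AdjoinRoot
import Mathlib.LinearAlgebra.Basis.VectorSpace

set_option autoImplicit false
universe u v w
open Polynomial MultCrv

namespace Groth.Agent.Mult.Basic

variable {R : Type u} [CommRing R] {n : ℕ}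

lemma z_pow_eq_zero : z R n ^ n = 0 := by
  rw [← map_pow, Ideal.Quotient.eq_zero_iff_mem]
  exact Ideal.mem_span_singleton_self _

lemma z_pow_eq_zero_of_le {i : ℕ} (h : n ≤ i) : z R n ^ i = 0 := by
  obtain ⟨j, rfl⟩ := Nat.exists_eq_add_of_le h
  rw [pow_add, z_pow_eq_zero, zero_mul]

variable (R n) in
/-- top coefficient -/
noncomputable def τ : Rn R n →ₗ[R] R where
  toFun := Quotient.lift (fun p : R[X] => if 0 < n then p.coeff (n - 1) else 0) (by
    intro p q (h : (Submodule.quotientRel (Ideal.span {(X : R[X]) ^ n})).r p q)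
    rw [Submodule.quotientRel_def, Ideal.mem_span_singleton] at h
    obtain ⟨c, hc⟩ := h
    split_ifs with hn
    · rw [← sub_eq_zero, ← coeff_sub, hc, coeff_X_pow_mul', if_neg (by omega)]
    · rfl)
  map_add' := by
    rintro ⟨p⟩ ⟨q⟩
    show (if 0 < n then (p + q).coeff (n - 1) else 0) =
      (if 0 < n then p.coeff (n - 1) else 0) + (if 0 < n then q.coeff (n - 1) else 0)
    split_ifs <;> simp
  map_smul' := by
    rintro c ⟨p⟩
    show (if 0 < n then (c • p).coeff (n - 1) else 0) = c * (if 0 < n then p.coeff (n - 1) else 0)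
    split_ifs <;> simp

lemma τ_mk (hn : 1 ≤ n) (p : R[X]) :
    τ R n (Ideal.Quotient.mk _ p) = p.coeff (n - 1) := if_pos (by omega)

lemma τ_z_pow_mul (hn : 1 ≤ n) (p : R[X]) {j : ℕ} (hj : j < n) :
    τ R n (z R n ^ (n - 1 - j) * Ideal.Quotient.mk _ p) = p.coeff j := by
  rw [← map_pow, ← map_mul, τ_mk hn, coeff_X_pow_mul', if_pos (by omega)]
  congr 1
  omega

/-- expansion in powers of `z` -/
lemma eq_sum_coeff (hn : 1 ≤ n) (a : Rn R n) :
    a = ∑ j : Fin n, τ R n (z R n ^ (n - 1 - (j : ℕ)) * a) • z R n ^ (j : ℕ) := by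
  obtain ⟨p, rfl⟩ := Ideal.Quotient.mk_surjective a
  simp only [fun j : Fin n => τ_z_pow_mul hn p j.2]
  conv_lhs => rw [p.as_sum_range' (max (p.natDegree + 1) n) (lt_of_lt_of_le (Nat.lt_succ_self _) (le_max_left _ _))]
  rw [map_sum, ← Finset.sum_range_add_sum_Ico _ (le_max_right (p.natDegree + 1) n),
    Finset.sum_eq_zero (s := Finset.Ico _ _) (fun i hi => ?_), add_zero, Finset.sum_range]
  · refine Finset.sum_congr rfl fun j _ => ?_
    rw [← C_mul_X_pow_eq_monomial, ← smul_eq_C_mul, ← map_pow]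
    rfl
  · rw [← C_mul_X_pow_eq_monomial, map_mul, map_pow, z_pow_eq_zero_of_le (Finset.mem_Ico.mp hi).1,
      mul_zero]

lemma ext_τ (hn : 1 ≤ n) {a b : Rn R n} (h : ∀ c, τ R n (c * a) = τ R n (c * b)) : a = b := by
  rw [eq_sum_coeff hn a, eq_sum_coeff hn b]
  simp [h]

variable {M : Type v} [AddCommGroup M] [Module (Rn R n) M] [Module R M] [IsScalarTower R (Rn R n) M]

lemma map_smul_of_commute {N : Type w} [AddCommGroup N] [Module (Rn R n) N] [Module R N]
    [IsScalarTower R (Rn R n) N] (hn : 1 ≤ n) (f : M →ₗ[R] N) (hz : ∀ m, f (z R n • m) = z R n • f m)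
    (a : Rn R n) (m : M) : f (a • m) = a • f m := by
  have hpow : ∀ (j : ℕ) (m : M), f (z R n ^ j • m) = z R n ^ j • f m := by
    intro j
    induction j with
    | zero => simp
    | succ j ih => intro m; rw [pow_succ', mul_smul, mul_smul, hz, ih]
  rw [eq_sum_coeff hn a]
  simp only [Finset.sum_smul, map_sum, smul_assoc, map_smul, hpow]

/-- the inverse of composition with `τ` -/
noncomputable def Ψ (hn : 1 ≤ n) (g : M →ₗ[R] R) : M →ₗ[Rn R n] Rn R n where
  toFun m := ∑ j : Fin n, g (z R n ^ (n - 1 - (j : ℕ)) • m) • z R n ^ (j : ℕ)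
  map_add' x y := by simp [smul_add, add_smul, Finset.sum_add_distrib]
  map_smul' a m := by
    let f : M →ₗ[R] Rn R n :=
      { toFun := fun m => ∑ j : Fin n, g (z R n ^ (n - 1 - (j : ℕ)) • m) • z R n ^ (j : ℕ)
        map_add' := fun x y => by simp [smul_add, add_smul, Finset.sum_add_distrib]
        map_smul' := fun c m => by simp [Finset.smul_sum, smul_comm _ c, smul_smul] }
    refine map_smul_of_commute hn f (fun m => ?_) a m
    show ∑ j : Fin n, g (z R n ^ (n - 1 - (j : ℕ)) • z R n • m) • z R n ^ (j : ℕ) =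
      z R n * ∑ j : Fin n, g (z R n ^ (n - 1 - (j : ℕ)) • m) • z R n ^ (j : ℕ)
    obtain ⟨n, rfl⟩ : ∃ k, n = k + 1 := Nat.exists_eq_succ_of_ne_zero (by omega)
    rw [Finset.mul_sum, Fin.sum_univ_succ, Fin.sum_univ_castSucc (f := fun j : Fin (n + 1) =>
      z R (n+1) * g (z R (n+1) ^ (n + 1 - 1 - (j : ℕ)) • m) • z R (n+1) ^ (j : ℕ))]
    simp only [smul_smul, ← pow_succ, Fin.val_zero, Fin.val_succ, Fin.val_castSucc, Fin.val_last,
      mul_smul_comm, ← pow_succ']
    rw [smul_eq_zero_of_left (z_pow_eq_zero_of_le (R := R) (n := n + 1) (i := n + 1 - 1 - 0 + 1) (by omega)) m,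
      map_zero, zero_smul, zero_add, z_pow_eq_zero_of_le (by omega : n + 1 ≤ n + 1), smul_zero, add_zero]
    refine Finset.sum_congr rfl fun j _ => ?_
    rw [show n + 1 - 1 - ((j : ℕ) + 1) + 1 = n + 1 - 1 - (j : ℕ) by omega]

lemma Ψ_apply (hn : 1 ≤ n) (g : M →ₗ[R] R) (m : M) :
    Ψ hn g m = ∑ j : Fin n, g (z R n ^ (n - 1 - (j : ℕ)) • m) • z R n ^ (j : ℕ) := rfl

lemma τ_z_pow (hn : 1 ≤ n) (j : Fin n) : τ R n (z R n ^ (j : ℕ)) = if (j : ℕ) = n - 1 then 1 else 0 := by
  rw [← map_pow, τ_mk hn, coeff_X_pow]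
  by_cases h : (j : ℕ) = n - 1
  · simp [h]
  · simp [h, Ne.symm h]

lemma τ_Ψ (hn : 1 ≤ n) (g : M →ₗ[R] R) (m : M) : τ R n (Ψ hn g m) = g m := by
  simp only [Ψ_apply, map_sum, map_smul, τ_z_pow hn, smul_eq_mul, mul_ite, mul_one, mul_zero]
  rw [Finset.sum_eq_single ⟨n - 1, by omega⟩ (fun j _ hj => if_neg fun h => hj (Fin.ext h))
    (by simp)]
  simp

lemma Ψ_τ (hn : 1 ≤ n) (f : M →ₗ[Rn R n] Rn R n) :
    Ψ (M := M) hn (τ R n ∘ₗ (f.restrictScalars R : M →ₗ[R] Rn R n)) = f := by
  refine LinearMap.ext fun m => ext_τ hn fun c => ?_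
  rw [← smul_eq_mul, ← map_smul, τ_Ψ, ← smul_eq_mul, ← map_smul]
  rfl

lemma Ψ_injective (hn : 1 ≤ n) : Function.Injective (Ψ (R := R) (n := n) (M := M) hn) := fun g g' h =>
  LinearMap.ext fun m => by rw [← τ_Ψ hn g, h, τ_Ψ]

instance instFree : Module.Free R (Rn R n) :=
  Module.Free.of_basis (AdjoinRoot.powerBasis' (monic_X_pow n)).basis

instance instFinite : Module.Finite R (Rn R n) :=
  Module.Finite.of_basis (AdjoinRoot.powerBasis' (monic_X_pow n)).basis

lemma finite_of_tower [Module.Finite (Rn R n) M] : Module.Finite R M := Module.Finite.trans (Rn R n) M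

instance instNoetherian [IsNoetherianRing R] : IsNoetherianRing (Rn R n) := inferInstance

variable {N : Type w} [AddCommGroup N] [Module (Rn R n) N] [Module R N] [IsScalarTower R (Rn R n) N]

section PID

variable [IsDomain R] [IsPrincipalIdealRing R]

lemma free_of_torsionFree [Module.Finite (Rn R n) M] [Module.IsTorsionFree R M] : Module.Free R M :=
  haveI := finite_of_tower (R := R) (n := n) (M := M)
  Module.free_of_finite_type_torsion_free'

omit [IsPrincipalIdealRing R] in
lemma torsionFree_of_smul {P : Type*} [AddCommGroup P] [Module R P]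
    (h : ∀ (r : R) (p : P), r ≠ 0 → r • p = 0 → p = 0) : Module.IsTorsionFree R P :=
  ⟨fun r hr p q hpq => sub_eq_zero.mp (h r _ hr.ne_zero (by rw [smul_sub, sub_eq_zero]; exact hpq))⟩

omit [IsPrincipalIdealRing R] in
lemma eq_zero_of_smul {P : Type*} [AddCommGroup P] [Module R P] [Module.IsTorsionFree R P]
    {r : R} {p : P} (hr : r ≠ 0) (h : r • p = 0) : p = 0 := by
  rcases smul_eq_zero.mp h with h | h
  · exact absurd h hr
  · exact h

/-- extension of forms: `A` is relatively injective -/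
lemma exists_extension (hn : 1 ≤ n) [Module.Finite (Rn R n) N] [Module.IsTorsionFree R N]
    {K : Type*} [AddCommGroup K] [Module (Rn R n) K] (f : K →ₗ[Rn R n] M) (p : M →ₗ[Rn R n] N)
    (hf : Function.Injective f) (hp : Function.Surjective p) (hfp : LinearMap.range f = LinearMap.ker p)
    (φ : K →ₗ[Rn R n] Rn R n) : ∃ ψ : M →ₗ[Rn R n] Rn R n, ψ.comp f = φ := by
  letI : Module R K := Module.compHom K (algebraMap R (Rn R n))
  haveI : IsScalarTower R (Rn R n) K := 
    ⟨fun r a k => by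
      show (r • a) • k = algebraMap R (Rn R n) r • (a • k)
      rw [smul_smul, ← Algebra.smul_def]⟩
  haveI := free_of_torsionFree (R := R) (n := n) (M := N)
  obtain ⟨s, hs⟩ := Module.projective_lifting_property (p.restrictScalars R) LinearMap.id hp
  have hmem : ∀ m, m - s (p m) ∈ LinearMap.range (f.restrictScalars R) := fun m => by
    show m - s (p m) ∈ LinearMap.range f
    rw [hfp, LinearMap.mem_ker, map_sub, sub_eq_zero]
    exact (LinearMap.congr_fun hs (p m)).symm
  let e := LinearEquiv.ofInjective (f.restrictScalars R) hf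
  let r : M →ₗ[R] K := e.symm.toLinearMap ∘ₗ
    LinearMap.codRestrict _ (LinearMap.id - s ∘ₗ p.restrictScalars R) hmem
  have hr : ∀ k, r (f k) = k := fun k => by
    refine e.injective (Subtype.ext ?_)
    simp only [r, LinearMap.comp_apply, LinearEquiv.coe_coe, LinearEquiv.apply_symm_apply]
    have hpf : p (f k) = 0 := LinearMap.mem_ker.mp (hfp ▸ LinearMap.mem_range_self f k)
    show f k - s (p (f k)) = f k
    rw [hpf, map_zero, sub_zero]
  refine ⟨Ψ hn ((τ R n ∘ₗ φ.restrictScalars R) ∘ₗ r), ?_⟩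
  refine LinearMap.ext fun k => ext_τ hn fun c => ?_
  rw [LinearMap.comp_apply, ← smul_eq_mul, ← map_smul, τ_Ψ, ← map_smul]
  show τ R n (φ (r (f (c • k)))) = _
  rw [hr, map_smul]
  rfl

lemma torsionFree_of_filt2_one (h : Module.Free R ↥(filt2 R n M 1)) : Module.IsTorsionFree R M := by
  refine torsionFree_of_smul fun r m hr hm => ?_
  have : ∀ i : ℕ, z R n ^ i • m = 0 → m = 0 := by
    intro i
    induction i generalizing m with
    | zero => simp
    | succ i ih =>
      intro hi
      rw [pow_succ, mul_smul] at hi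
      have hzm := ih (z R n • m) (by rw [smul_comm, hm, smul_zero]) hi
      have hmem : m ∈ filt2 R n M 1 := by
        show z R n ^ 1 • m = 0
        rw [pow_one, hzm]
      exact congrArg Subtype.val (eq_zero_of_smul (p := (⟨m, hmem⟩ : filt2 R n M 1)) hr (Subtype.ext hm))
  exact this n (smul_eq_zero_of_left (z_pow_eq_zero (R := R) (n := n)) m)

omit [Module R M] [IsScalarTower R (Rn R n) M] [IsDomain R] [IsPrincipalIdealRing R] in
lemma filt2_top : filt2 R n M n = ⊤ := by
  rw [eq_top_iff]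
  intro m _
  show z R n ^ n • m = 0
  exact smul_eq_zero_of_left (z_pow_eq_zero (R := R) (n := n)) m

omit [Module R M] [IsScalarTower R (Rn R n) M] [IsDomain R] [IsPrincipalIdealRing R] in
lemma mem_filt {i : ℕ} {x : M} : x ∈ filt R n M i ↔ ∃ y, z R n ^ i • y = x := Iff.rfl

omit [Module R M] [IsScalarTower R (Rn R n) M] [IsDomain R] [IsPrincipalIdealRing R] in
lemma mem_filt2 {i : ℕ} {x : M} : x ∈ filt2 R n M i ↔ z R n ^ i • x = 0 := Iff.rfl

omit [Module R M] [IsScalarTower R (Rn R n) M] [IsDomain R] [IsPrincipalIdealRing R] in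
lemma eq_top_of_add_filt {S : Submodule (Rn R n) M} (h : ∀ v : M, ∃ u ∈ S, v - u ∈ filt R n M 1) :
    S = ⊤ := by
  have : ∀ i, ∀ v : M, ∃ u ∈ S, ∃ w, v = u + z R n ^ i • w := by
    intro i
    induction i with
    | zero => exact fun v => ⟨0, S.zero_mem, v, by simp⟩
    | succ i ih =>
      intro v
      obtain ⟨u, hu, w, rfl⟩ := ih v
      obtain ⟨u', hu', hw⟩ := h w
      obtain ⟨w', hw'⟩ := mem_filt.mp hw
      refine ⟨u + z R n ^ i • u', add_mem hu (S.smul_mem _ hu'), w', ?_⟩
      rw [show w = u' + z R n ^ 1 • w' by rw [hw']; abel, smul_add, smul_smul, ← pow_add]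
      abel
  rw [eq_top_iff]
  intro v _
  obtain ⟨u, hu, w, rfl⟩ := this n v
  rw [smul_eq_zero_of_left (z_pow_eq_zero (R := R) (n := n)) w, add_zero]
  exact hu

omit [Module R M] [IsScalarTower R (Rn R n) M] [Module R N] [IsScalarTower R (Rn R n) N] [IsDomain R] [IsPrincipalIdealRing R] in
lemma injective_of_filt2_one (φ : M →ₗ[Rn R n] N)
    (h : ∀ x ∈ filt2 R n M 1, φ x = 0 → x = 0) : Function.Injective φ := by
  rw [injective_iff_map_eq_zero]
  intro m hm
  have : ∀ i : ℕ, z R n ^ i • m = 0 → m = 0 := by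
    intro i
    induction i generalizing m with
    | zero => simp
    | succ i ih =>
      intro hi
      rw [pow_succ, mul_smul] at hi
      have hzm := ih (z R n • m) (by rw [map_smul, hm, smul_zero]) hi
      exact h m (by show z R n ^ 1 • m = 0; rw [pow_one, hzm]) hm
  exact this n (smul_eq_zero_of_left (z_pow_eq_zero (R := R) (n := n)) m)

/-- `z^(n-1)` factors through a free module -/
lemma exists_factor_top (hn : 1 ≤ n) [Module.Finite (Rn R n) M] [Module.IsTorsionFree R M] :
    ∃ (L : ℕ) (a : M →ₗ[Rn R n] (Fin L → Rn R n)) (b : (Fin L → Rn R n) →ₗ[Rn R n] M),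
      ∀ m, b (a m) = z R n ^ (n - 1) • m := by
  haveI := finite_of_tower (R := R) (n := n) (M := M)
  let K := (filt2 R n M (n - 1)).restrictScalars R
  haveI : Module.IsTorsionFree R (M ⧸ K) := torsionFree_of_smul fun r p hr hp => by
    obtain ⟨m, rfl⟩ := Submodule.Quotient.mk_surjective _ p
    rw [← Submodule.Quotient.mk_smul, Submodule.Quotient.mk_eq_zero] at hp
    rw [Submodule.Quotient.mk_eq_zero]
    have hp' : z R n ^ (n - 1) • r • m = 0 := hp
    rw [smul_comm] at hp'
    exact eq_zero_of_smul hr hp'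
  haveI : Module.Free R (M ⧸ K) := Module.free_of_finite_type_torsion_free'
  let b := Module.finBasis R (M ⧸ K)
  choose e he using fun l => Submodule.Quotient.mk_surjective K (b l)
  refine ⟨Module.finrank R (M ⧸ K), LinearMap.pi fun l => Ψ hn (b.coord l ∘ₗ K.mkQ),
    Fintype.linearCombination (Rn R n) e, fun m => ?_⟩
  have hg : ∀ (l) (m : M), Ψ hn (b.coord l ∘ₗ K.mkQ) m =
      b.coord l (K.mkQ m) • z R n ^ (n - 1) := by
    intro l m
    rw [Ψ_apply, Finset.sum_eq_single ⟨n - 1, by omega⟩]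
    · simp
    · intro j _ hj
      have hj' : (j : ℕ) < n - 1 := by
        have : (j : ℕ) ≠ n - 1 := fun h => hj (Fin.ext h)
        omega
      have hmem : z R n ^ (n - 1 - (j : ℕ)) • m ∈ K := by
        show z R n ^ (n - 1) • z R n ^ (n - 1 - (j : ℕ)) • m = 0
        rw [smul_smul, ← pow_add]
        exact smul_eq_zero_of_left (z_pow_eq_zero_of_le (R := R) (n := n) (by omega)) m
      simp [(Submodule.Quotient.mk_eq_zero K).mpr hmem]
    · simp
  have hkey : (∑ l, b.coord l (K.mkQ m) • e l) - m ∈ K := by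
    rw [← Submodule.Quotient.eq]
    refine (map_sum K.mkQ _ _).trans ?_
    simp only [map_smul, Submodule.mkQ_apply, he]
    exact b.sum_repr _
  have h0 : z R n ^ (n - 1) • ((∑ l, b.coord l (K.mkQ m) • e l) - m) = 0 := hkey
  rw [smul_sub, sub_eq_zero] at h0
  rw [← h0, Finset.smul_sum]
  simp only [Fintype.linearCombination_apply, LinearMap.pi_apply, hg, smul_assoc, smul_comm (z R n ^ (n - 1))]

end PID

end Groth.Agent.Mult.Basic
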