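import Groth.Agent.Mult.Basic
import Mathlib.Algebra.Category.ModuleCat.Ext.Finite
import Mathlib.Algebra.Category.ModuleCat.Projective
import Mathlib.Algebra.Homology.DerivedCategory.Ext.EnoughProjectives
import Mathlib.RingTheory.DiscreteValuationRing.Basic

set_option autoImplicit false
set_option linter.style.haveILetI false
universe u
open CategoryTheory Abelian Polynomial MultCrv Groth.Agent.Mult.Basic

namespace Groth.Agent.Mult.Ext

variable {R : Type u} [CommRing R] {n : ℕ}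

instance projective_pi (r : ℕ) :
    Projective (ModuleCat.of (Rn R n) (Fin r → Rn R n)) :=
  (ModuleCat.of (Rn R n) (Fin r → Rn R n)).projective_of_free (Pi.basisFun (Rn R n) (Fin r))

lemma ext_pi_eq_zero (r : ℕ) (Y : ModuleCat.{u} (Rn R n)) {j : ℕ}
    (e : Ext (ModuleCat.of (Rn R n) (Fin r → Rn R n)) Y (j + 1)) : e = 0 :=
  Ext.eq_zero_of_projective e

variable {M : Type u} [AddCommGroup M] [Module (Rn R n) M]

lemma exists_shift {r : ℕ} (f : (Fin r → Rn R n) →ₗ[Rn R n] M) (hf : Function.Surjective f)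
    (Y : ModuleCat.{u} (Rn R n)) {j i : ℕ} (hij : 1 + j = i) (x : Ext (ModuleCat.of (Rn R n) M) Y i) :
    ∃ y : Ext (ModuleCat.of (Rn R n) (LinearMap.ker f)) Y j,
      (LinearMap.shortExact_shortComplexKer hf).extClass.comp y hij = x := by
  refine Ext.contravariant_sequence_exact₃ (LinearMap.shortExact_shortComplexKer hf) Y x ?_ hij
  obtain ⟨i, rfl⟩ : ∃ i', i = i' + 1 := ⟨j, by omega⟩
  exact ext_pi_eq_zero r Y _

section
variable [Module R M] [IsScalarTower R (Rn R n) M]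

lemma torsionFree_submodule [IsDomain R] [Module.IsTorsionFree R M] (S : Submodule (Rn R n) M) :
    Module.IsTorsionFree R S :=
  torsionFree_of_smul fun r p hr hp =>
    Subtype.ext (eq_zero_of_smul (p := (p : M)) hr (congrArg Subtype.val hp))

end

variable [IsDomain R] [IsPrincipalIdealRing R]

omit [Module (Rn R n) M] [AddCommGroup M] in
lemma torsionFree_pi (r : ℕ) : Module.IsTorsionFree R (Fin r → Rn R n) := inferInstance

theorem ext_self_eq_zero (hn : 1 ≤ n) : ∀ (j : ℕ) (M : Type u) [AddCommGroup M] [Module (Rn R n) M]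
    [Module R M] [IsScalarTower R (Rn R n) M] [Module.Finite (Rn R n) M] [Module.IsTorsionFree R M]
    (x : Ext (ModuleCat.of (Rn R n) M) (ModuleCat.of (Rn R n) (Rn R n)) (1 + j)), x = 0 := by
  intro j
  induction j with
  | zero =>
    intro M _ _ _ _ _ _ x
    obtain ⟨r, f, hf⟩ := Module.Finite.exists_fin' (Rn R n) M
    obtain ⟨y, rfl⟩ := exists_shift f hf _ (j := 0) (i := 1 + 0) rfl x
    obtain ⟨φ, rfl⟩ := Ext.homEquiv₀.symm.surjective y
    obtain ⟨ψ, hψ⟩ := exists_extension (R := R) hn (LinearMap.ker f).subtype f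
      (LinearMap.ker f).injective_subtype hf (Submodule.range_subtype _) φ.hom
    have hφ : φ = ModuleCat.ofHom (LinearMap.ker f).subtype ≫ ModuleCat.ofHom ψ :=
      ModuleCat.hom_ext hψ.symm
    show _ = (0 : Ext _ _ _)
    rw [hφ, ← Ext.mk₀_homEquiv₀_apply (Ext.homEquiv₀.symm _), Equiv.apply_symm_apply,
      ← Ext.mk₀_comp_mk₀]
    exact (LinearMap.shortExact_shortComplexKer hf).extClass_comp_assoc _
  | succ j ih =>
    intro M _ _ _ _ _ _ x
    obtain ⟨r, f, hf⟩ := Module.Finite.exists_fin' (Rn R n) M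
    obtain ⟨y, rfl⟩ := exists_shift f hf _ (j := 1 + j) (by omega) x
    haveI := torsionFree_submodule (R := R) (LinearMap.ker f)
    rw [ih (LinearMap.ker f) y, Ext.comp_zero]

theorem ext_self_eq_zero_of_two_le (hn : 1 ≤ n) [Module.Finite (Rn R n) M] (j : ℕ)
    (x : Ext (ModuleCat.of (Rn R n) M) (ModuleCat.of (Rn R n) (Rn R n)) (1 + (1 + j))) : x = 0 := by
  obtain ⟨r, f, hf⟩ := Module.Finite.exists_fin' (Rn R n) M
  obtain ⟨y, rfl⟩ := exists_shift f hf _ rfl x
  haveI := torsionFree_submodule (R := R) (LinearMap.ker f)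
  rw [ext_self_eq_zero hn j (LinearMap.ker f) y, Ext.comp_zero]

theorem zpow_smul_eq_zero (hn : 1 ≤ n) [Module R M] [IsScalarTower R (Rn R n) M]
    [Module.Finite (Rn R n) M] [Module.IsTorsionFree R M] (N : ModuleCat.{u} (Rn R n)) (j : ℕ)
    (x : Ext (ModuleCat.of (Rn R n) M) N (j + 1)) : z R n ^ (n - 1) • x = 0 := by
  obtain ⟨L, a, b, hab⟩ := exists_factor_top (R := R) (M := M) hn
  have h : ModuleCat.ofHom a ≫ ModuleCat.ofHom b = z R n ^ (n - 1) • 𝟙 (ModuleCat.of (Rn R n) M) :=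
    ModuleCat.hom_ext (LinearMap.ext hab)
  have hx : z R n ^ (n - 1) • x =
      (Ext.mk₀ (z R n ^ (n - 1) • 𝟙 (ModuleCat.of (Rn R n) M))).comp x (zero_add _) := by
    have e1 := Ext.mk₀_smul (C := ModuleCat.{u} (Rn R n)) (z R n ^ (n - 1)) (𝟙 (ModuleCat.of (Rn R n) M))
    have e2 : (Ext.mk₀ (z R n ^ (n - 1) • 𝟙 (ModuleCat.of (Rn R n) M))).comp x (zero_add _) =
        (z R n ^ (n - 1) • Ext.mk₀ (𝟙 (ModuleCat.of (Rn R n) M))).comp x (zero_add _) := by
      rw [← e1]
    rw [e2, Ext.smul_comp, Ext.mk₀_id_comp]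
  rw [hx, ← h, ← Ext.mk₀_comp_mk₀_assoc, ext_pi_eq_zero L N ((Ext.mk₀ _).comp x _), Ext.comp_zero]

theorem zpow_smul_eq_zero_of_two_le (hn : 1 ≤ n) [Module.Finite (Rn R n) M]
    (N : ModuleCat.{u} (Rn R n)) (j : ℕ)
    (x : Ext (ModuleCat.of (Rn R n) M) N (1 + (j + 1))) : z R n ^ (n - 1) • x = 0 := by
  obtain ⟨r, f, hf⟩ := Module.Finite.exists_fin' (Rn R n) M
  obtain ⟨y, rfl⟩ := exists_shift f hf _ rfl x
  haveI := torsionFree_submodule (R := R) (LinearMap.ker f)
  rw [← Ext.comp_smul, zpow_smul_eq_zero hn N j y, Ext.comp_zero]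

theorem torsionFree_of_ext_one (hn : 1 ≤ n) [Module R M] [IsScalarTower R (Rn R n) M]
    [Module.Finite (Rn R n) M]
    (h : ∀ x : Ext (ModuleCat.of (Rn R n) M) (ModuleCat.of (Rn R n) (Rn R n)) 1, x = 0) :
    Module.IsTorsionFree R M := by
  obtain ⟨r, f, hf⟩ := Module.Finite.exists_fin' (Rn R n) M
  haveI := torsionFree_submodule (R := R) (LinearMap.ker f)
  haveI := finite_of_tower (R := R) (n := n) (M := LinearMap.ker f)
  haveI := free_of_torsionFree (R := R) (n := n) (M := LinearMap.ker f)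
  have hext : ∀ g : LinearMap.ker f →ₗ[R] R, ∃ G : (Fin r → Rn R n) →ₗ[R] R, ∀ k, G k.1 = g k := by
    intro g
    have hS := LinearMap.shortExact_shortComplexKer hf
    obtain ⟨y, hy⟩ := Ext.contravariant_sequence_exact₁ hS (ModuleCat.of (Rn R n) (Rn R n))
      (Ext.mk₀ (ModuleCat.ofHom (Ψ hn g))) (n₁ := 1) rfl (h _)
    obtain ⟨ψ, rfl⟩ := Ext.homEquiv₀.symm.surjective y
    refine ⟨τ R n ∘ₗ (ψ.hom.restrictScalars R : (Fin r → Rn R n) →ₗ[R] Rn R n), fun k => ?_⟩
    rw [← Ext.mk₀_homEquiv₀_apply (Ext.homEquiv₀.symm _), Equiv.apply_symm_apply,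
      Ext.mk₀_comp_mk₀] at hy
    have h2 := congrArg (fun q : ModuleCat.of (Rn R n) (LinearMap.ker f) ⟶ _ => q.hom k)
      (Ext.homEquiv₀.symm.injective hy)
    rw [← τ_Ψ hn g k]
    exact congrArg (τ R n) h2
  let b := Module.finBasis R (LinearMap.ker f)
  choose G hG using fun l => hext (b.coord l)
  let ρ : (Fin r → Rn R n) →ₗ[R] LinearMap.ker f :=
    Fintype.linearCombination R b ∘ₗ LinearMap.pi G
  have hρ : ∀ k : LinearMap.ker f, ρ k.1 = k := fun k => by
    simp only [ρ, LinearMap.comp_apply, Fintype.linearCombination_apply, LinearMap.pi_apply, hG]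
    exact b.sum_repr k
  refine torsionFree_of_smul fun c m hc hm => ?_
  obtain ⟨x, rfl⟩ := hf m
  have hmem : c • x ∈ LinearMap.ker f := by
    rw [LinearMap.mem_ker, LinearMap.map_smul_of_tower, hm]
  have h1 : c • x = c • (ρ x).1 := by
    conv_lhs => rw [show c • x = (⟨c • x, hmem⟩ : LinearMap.ker f).1 from rfl, ← hρ ⟨c • x, hmem⟩]
    show (ρ (c • x)).1 = _
    rw [map_smul]
    rfl
  have h2 : x = (ρ x).1 := sub_eq_zero.mp
    (eq_zero_of_smul (P := Fin r → Rn R n) hc (by rw [smul_sub, h1, sub_self]))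
  rw [h2]
  exact LinearMap.mem_ker.mp (ρ x).2

end Groth.Agent.Mult.Ext
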