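import Groth.Agent.Mult.Basic
import Mathlib.LinearAlgebra.Dimension.RankNullity
import Mathlib.LinearAlgebra.Dimension.Localization
import Mathlib.RingTheory.Noetherian.Basic

set_option autoImplicit false
set_option linter.style.haveILetI false
universe u
open Polynomial MultCrv Groth.Agent.Mult.Basic

namespace Groth.Agent.Mult.Graded

variable {R : Type u} [CommRing R] [IsDomain R] [IsPrincipalIdealRing R] {n : ℕ}
variable {M : Type u} [AddCommGroup M] [Module (Rn R n) M] [Module R M] [IsScalarTower R (Rn R n) M]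
  [Module.Finite (Rn R n) M]

lemma finrank_quot_add {p q : Submodule (Rn R n) M} (hpq : p ≤ q) :
    Module.finrank R (↥q ⧸ Submodule.comap q.subtype p) + Module.finrank R p = Module.finrank R q := by
  haveI := finite_of_tower (R := R) (n := n) (M := q)
  rw [← ((Submodule.comapSubtypeEquivOfLe hpq).restrictScalars R).finrank_eq,
    ← (Submodule.Quotient.restrictScalarsEquiv R (Submodule.comap q.subtype p)).finrank_eq,
    ← ((Submodule.restrictScalarsEquiv R (Rn R n) q (Submodule.comap q.subtype p)).restrictScalars R).finrank_eq]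
  exact Submodule.finrank_quotient_add_finrank _

omit [IsDomain R] [IsPrincipalIdealRing R] [Module R M] [IsScalarTower R (Rn R n) M] [Module.Finite (Rn R n) M] in
lemma filt_succ_le (i : ℕ) : filt R n M (i + 1) ≤ filt R n M i := by
  rintro x ⟨y, rfl⟩
  exact ⟨z R n • y, by
    show z R n ^ i • z R n • y = z R n ^ (i + 1) • y
    rw [smul_smul, ← pow_succ]⟩

omit [IsDomain R] [IsPrincipalIdealRing R] [Module R M] [IsScalarTower R (Rn R n) M] [Module.Finite (Rn R n) M] in
lemma filt2_le_succ (i : ℕ) : filt2 R n M i ≤ filt2 R n M (i + 1) := by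
  intro x hx
  show z R n ^ (i + 1) • x = 0
  rw [pow_succ', mul_smul, show z R n ^ i • x = 0 from hx, smul_zero]

lemma finrank_filt_add (i : ℕ) :
    Module.finrank R (filt R n M i) + Module.finrank R (filt2 R n M i) = Module.finrank R M := by
  haveI := finite_of_tower (R := R) (n := n) (M := M)
  let f : M →ₗ[Rn R n] M := z R n ^ i • LinearMap.id
  have h := Submodule.finrank_quotient_add_finrank (R := R) ((LinearMap.ker f).restrictScalars R)
  show Module.finrank R (LinearMap.range f) + Module.finrank R (LinearMap.ker f) = Module.finrank R M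
  rw [← (f.quotKerEquivRange.restrictScalars R).finrank_eq,
    ← (Submodule.Quotient.restrictScalarsEquiv R (LinearMap.ker f)).finrank_eq]
  exact h

theorem finrank_G2_eq (i : ℕ) : Module.finrank R (G2 R n M (i + 1)) = Module.finrank R (G1 R n M i) := by
  have h1 := finrank_quot_add (R := R) (filt2_le_succ (R := R) (n := n) (M := M) i)
  have h2 := finrank_quot_add (R := R) (filt_succ_le (R := R) (n := n) (M := M) i)
  have h3 := finrank_filt_add (R := R) (n := n) (M := M) i
  have h4 := finrank_filt_add (R := R) (n := n) (M := M) (i + 1)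
  show Module.finrank R (↥(filt2 R n M (i + 1)) ⧸ Submodule.comap (filt2 R n M (i + 1)).subtype
    (filt2 R n M i)) = Module.finrank R (↥(filt R n M i) ⧸ Submodule.comap (filt R n M i).subtype
    (filt R n M (i + 1)))
  omega

variable (R n M) in
/-- torsion criterion for `G1` -/
def Q (i : ℕ) : Prop := ∀ (r : R) (m : M), r ≠ 0 →
  z R n ^ i • r • m ∈ filt R n M (i + 1) → z R n ^ i • m ∈ filt R n M (i + 1)

variable (R n M) in
/-- torsion criterion for `Gam2` -/
def P (i : ℕ) : Prop := ∀ (r : R) (m : M), r ≠ 0 → z R n ^ (i + 1) • m = 0 →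
  z R n ^ i • r • m ∈ filt R n M (i + 1) → z R n ^ i • m ∈ filt R n M (i + 1)

omit [Module.Finite (Rn R n) M] [IsDomain R] [IsPrincipalIdealRing R] in
lemma Q_of_P (i : ℕ) (hP : P R n M i) (hQ : Q R n M (i + 1)) : Q R n M i := by
  intro r m hr hm
  obtain ⟨w, hw⟩ := mem_filt.mp hm
  obtain ⟨v, hv⟩ := mem_filt.mp (hQ r m hr (mem_filt.mpr ⟨w, by
    rw [pow_succ' _ (i + 1), mul_smul, hw, smul_smul, ← pow_succ']⟩))
  have hu0 : z R n ^ (i + 1) • (m - z R n • v) = 0 := by
    rw [smul_sub, smul_smul, ← pow_succ, hv, sub_self]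
  have hmem := hP r (m - z R n • v) hr hu0 (mem_filt.mpr ⟨w - r • v, by
    rw [smul_sub, hw, smul_sub r, smul_sub, smul_comm r (z R n) v, smul_smul (z R n ^ i), ← pow_succ]⟩)
  rw [smul_sub, smul_smul, ← pow_succ] at hmem
  have := add_mem hmem (mem_filt.mpr ⟨v, rfl⟩ : z R n ^ (i + 1) • v ∈ filt R n M (i + 1))
  rwa [sub_add_cancel] at this

omit [Module.Finite (Rn R n) M] [IsDomain R] [IsPrincipalIdealRing R] in
lemma Q_all (h : ∀ i, i < n → P R n M i) : ∀ k i, n ≤ i + k → Q R n M i := by
  intro k
  induction k with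
  | zero =>
    intro i hi r m _ _
    rw [smul_eq_zero_of_left (z_pow_eq_zero_of_le (R := R) (n := n) (show n ≤ i by omega)) m]
    exact zero_mem _
  | succ k ih =>
    intro i hi
    by_cases hin : n ≤ i + k
    · exact ih i hin
    · exact Q_of_P i (h i (by omega)) (ih (i + 1) (by omega))

lemma free_G1_iff (i : ℕ) : Module.Free R (G1 R n M i) ↔ Q R n M i := by
  haveI := finite_of_tower (R := R) (n := n) (M := filt R n M i)
  haveI : Module.Finite R (G1 R n M i) := Module.Finite.of_surjective
    ((Submodule.mkQ (Submodule.comap (filt R n M i).subtype (filt R n M (i + 1)))).restrictScalars R)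
    (Submodule.mkQ_surjective (Submodule.comap (filt R n M i).subtype (filt R n M (i + 1))))
  constructor
  · intro h r m hr hm
    let p : filt R n M i := ⟨z R n ^ i • m, m, rfl⟩
    have h0 : r • (Submodule.Quotient.mk p : G1 R n M i) = 0 := by
      rw [← Submodule.Quotient.mk_smul, Submodule.Quotient.mk_eq_zero, Submodule.mem_comap]
      show r • z R n ^ i • m ∈ _
      rwa [smul_comm]
    have h1 := eq_zero_of_smul hr h0
    rw [Submodule.Quotient.mk_eq_zero] at h1
    exact h1
  · intro h
    haveI : Module.IsTorsionFree R (G1 R n M i) := torsionFree_of_smul fun r p hr hp => by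
      obtain ⟨⟨x, m, rfl⟩, rfl⟩ := Submodule.Quotient.mk_surjective _ p
      rw [← Submodule.Quotient.mk_smul, Submodule.Quotient.mk_eq_zero, Submodule.mem_comap] at hp
      rw [Submodule.Quotient.mk_eq_zero, Submodule.mem_comap]
      refine h r m hr ?_
      rw [smul_comm]
      exact hp
    exact Module.free_of_finite_type_torsion_free'

omit [IsDomain R] [IsPrincipalIdealRing R] [Module R M] [IsScalarTower R (Rn R n) M] [Module.Finite (Rn R n) M] in
lemma gam2_mk_eq_zero_iff (i : ℕ) (u : filt2 R n M (i + 1)) :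
    (Submodule.Quotient.mk (Submodule.Quotient.mk u : G2 R n M (i + 1)) : Gam2 R n M i) = 0 ↔
      z R n ^ i • (u : M) ∈ filt R n M (i + 1) := by
  rw [Submodule.Quotient.mk_eq_zero, LinearMap.mem_range]
  constructor
  · rintro ⟨q, hq⟩
    obtain ⟨w, rfl⟩ := Submodule.Quotient.mk_surjective _ q
    rw [lamG2, Submodule.mapQ_apply, Submodule.Quotient.eq, Submodule.mem_comap] at hq
    have hq' : z R n ^ i • (z R n • (w : M) - (u : M)) = 0 := hq
    rw [smul_sub, sub_eq_zero] at hq'
    refine mem_filt.mpr ⟨(w : M), ?_⟩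
    rw [← hq', smul_smul, ← pow_succ]
  · intro h
    obtain ⟨w, hw⟩ := mem_filt.mp h
    have hu : z R n ^ (i + 1) • (u : M) = 0 := u.2
    refine ⟨Submodule.Quotient.mk ⟨w, ?_⟩, ?_⟩
    · show z R n ^ (i + 2) • w = 0
      rw [pow_succ', mul_smul, hw, smul_smul, ← pow_succ', hu]
    · rw [lamG2, Submodule.mapQ_apply, Submodule.Quotient.eq, Submodule.mem_comap]
      show z R n ^ i • (z R n • w - (u : M)) = 0
      rw [smul_sub, smul_smul, ← pow_succ, hw, sub_self]

lemma free_Gam2_iff (i : ℕ) : Module.Free R (Gam2 R n M i) ↔ P R n M i := by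
  haveI := finite_of_tower (R := R) (n := n) (M := filt2 R n M (i + 1))
  haveI : Module.Finite R (Gam2 R n M i) := Module.Finite.of_surjective
    (((Submodule.mkQ (LinearMap.range (lamG2 R n M i))).restrictScalars R) ∘ₗ
      ((Submodule.mkQ (Submodule.comap (filt2 R n M (i + 1)).subtype
        (filt2 R n M (i + 1 - 1)))).restrictScalars R))
    ((Submodule.mkQ_surjective (LinearMap.range (lamG2 R n M i))).comp
      (Submodule.mkQ_surjective (Submodule.comap (filt2 R n M (i + 1)).subtype
        (filt2 R n M (i + 1 - 1)))))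
  constructor
  · intro h r m hr hm0 hm
    let u : filt2 R n M (i + 1) := ⟨m, hm0⟩
    have h0 : r • (Submodule.Quotient.mk (Submodule.Quotient.mk u : G2 R n M (i + 1)) : Gam2 R n M i) = 0 := by
      rw [← Submodule.Quotient.mk_smul, ← Submodule.Quotient.mk_smul, gam2_mk_eq_zero_iff]
      exact hm
    exact (gam2_mk_eq_zero_iff i u).mp (eq_zero_of_smul hr h0)
  · intro h
    haveI : Module.IsTorsionFree R (Gam2 R n M i) := torsionFree_of_smul fun r p hr hp => by
      obtain ⟨p, rfl⟩ := Submodule.Quotient.mk_surjective _ p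
      obtain ⟨u, rfl⟩ := Submodule.Quotient.mk_surjective _ p
      rw [← Submodule.Quotient.mk_smul, ← Submodule.Quotient.mk_smul, gam2_mk_eq_zero_iff] at hp
      rw [gam2_mk_eq_zero_iff]
      exact h r (u : M) hr u.2 hp
    exact Module.free_of_finite_type_torsion_free'

theorem free_G1_iff_free_Gam2 :
    (∀ i : ℕ, i < n → Module.Free R (G1 R n M i)) ↔ (∀ i : ℕ, i < n → Module.Free R (Gam2 R n M i)) := by
  refine ⟨fun h i hi => (free_Gam2_iff i).mpr fun r m hr _ hm => (free_G1_iff i).mp (h i hi) r m hr hm,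
    fun h i _ => (free_G1_iff i).mpr (Q_all (fun i hi => (free_Gam2_iff i).mp (h i hi)) n i (by omega))⟩

end Groth.Agent.Mult.Graded
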