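import Groth.Agent.Mult.Basic
import Mathlib.LinearAlgebra.Isomorphisms
import Mathlib.RingTheory.Polynomial.Basic
import Mathlib.LinearAlgebra.Pi

set_option autoImplicit false
set_option linter.style.haveILetI false
universe u
open Polynomial MultCrv Groth.Agent.Mult.Basic

namespace Groth.Agent.Mult.QF

variable {R : Type u} [CommRing R] [IsDomain R] {n : ℕ}

lemma ker_mul_z_pow {a : ℕ} (ha : a ≤ n) (b : Rn R n) :
    b * z R n ^ a = 0 ↔ b ∈ Ideal.span {z R n ^ (n - a)} := by
  constructor
  · intro h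
    obtain ⟨p, rfl⟩ := Ideal.Quotient.mk_surjective b
    rw [← map_pow, ← map_mul, Ideal.Quotient.eq_zero_iff_mem, Ideal.mem_span_singleton] at h
    obtain ⟨c, hc⟩ := h
    have : p = X ^ (n - a) * c := mul_right_cancel₀ (pow_ne_zero a (X_ne_zero (R := R)))
      (hc.trans (by rw [mul_right_comm, ← pow_add, Nat.sub_add_cancel ha]))
    rw [this, map_mul, map_pow]
    exact Ideal.mul_mem_right _ _ (Ideal.mem_span_singleton_self _)
  · intro h
    obtain ⟨c, rfl⟩ := Ideal.mem_span_singleton'.mp h
    rw [mul_assoc, ← pow_add, z_pow_eq_zero_of_le (by omega), mul_zero]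

/-- `(z^a) ≅ A/(z^(n-a))` -/
noncomputable def spanEquiv (a : ℕ) (ha : a ≤ n) :
    ↥(Ideal.span {z R n ^ a}) ≃ₗ[Rn R n] Oi R n (n - a) :=
  let ν : Rn R n →ₗ[Rn R n] ↥(Ideal.span {z R n ^ a}) :=
    LinearMap.codRestrict (Ideal.span {z R n ^ a}) (LinearMap.toSpanSingleton (Rn R n) (Rn R n) (z R n ^ a))
      fun b => by
        rw [LinearMap.toSpanSingleton_apply]
        exact Submodule.smul_mem _ _ (Ideal.mem_span_singleton_self _)
  have hν : Function.Surjective ν := fun x => by
    obtain ⟨c, hc⟩ := Ideal.mem_span_singleton'.mp x.2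
    exact ⟨c, Subtype.ext hc⟩
  have hk : LinearMap.ker ν = Ideal.span {z R n ^ (n - a)} := by
    ext b
    rw [LinearMap.mem_ker]
    exact Subtype.ext_iff.trans (ker_mul_z_pow ha b)
  (Submodule.quotEquivOfEq _ _ hk.symm ≪≫ₗ ν.quotKerEquivOfSurjective hν).symm

/-- transport along equalities -/
noncomputable def castEquiv {a b c d : ℕ} (h1 : a = b) (h2 : c = d) :
    (Fin a → Oi R n c) ≃ₗ[Rn R n] (Fin b → Oi R n d) := by
  subst h1 h2
  exact LinearEquiv.refl _ _

lemma subsingleton_Oi_zero : Subsingleton (Oi R n 0) :=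
  Submodule.Quotient.subsingleton_iff.mpr (by simp)

/-- the involution `i ↦ n-2-i` fixing the last index -/
def σ (n : ℕ) : Equiv.Perm (Fin n) :=
  Function.Involutive.toPerm (fun i => if h : (i : ℕ) + 1 < n then ⟨n - 2 - i, by omega⟩ else i) (by
    intro i
    by_cases h : (i : ℕ) + 1 < n
    · simp only [h, dif_pos]
      rw [dif_pos (show n - 2 - (i : ℕ) + 1 < n by omega)]
      ext
      simp only
      omega
    · simp only [h, dif_neg, not_false_eq_true])

lemma σ_symm_apply (i : Fin n) :
    (σ n).symm i = if h : (i : ℕ) + 1 < n then ⟨n - 2 - i, by omega⟩ else i := by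
  rfl

noncomputable def revEquiv (m : Fin n → ℕ) :
    ((k : Fin n) → Fin (m k) → Oi R n (n - ((k : ℕ) + 1))) ≃ₗ[Rn R n] QFModel R n (revType n m) :=
  LinearEquiv.piCongrLeft' (Rn R n) (fun k : Fin n => Fin (m k) → Oi R n (n - ((k : ℕ) + 1))) (σ n)
    ≪≫ₗ LinearEquiv.piCongrRight (fun i => by
      by_cases h : (i : ℕ) + 1 < n
      · refine castEquiv ?_ ?_
        · show m ((σ n).symm i) = revType n m i
          simp [σ_symm_apply, revType, h]
        · show n - (((σ n).symm i : Fin n) + 1 : ℕ) = i + 1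
          simp [σ_symm_apply, h]
          omega
      · haveI : Subsingleton (Fin (m ((σ n).symm i)) → Oi R n (n - (((σ n).symm i : Fin n) + 1 : ℕ))) := by
          haveI : Subsingleton (Oi R n (n - (((σ n).symm i : Fin n) + 1 : ℕ))) := by
            rw [show n - (((σ n).symm i : Fin n) + 1 : ℕ) = 0 by simp [σ_symm_apply, h]; omega]
            exact subsingleton_Oi_zero
          infer_instance
        haveI : IsEmpty (Fin (revType n m i)) := by
          rw [revType, dif_neg h]
          infer_instance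
        exact LinearEquiv.ofSubsingleton _ _) ≪≫ₗ (QFModel.equivPi R n (revType n m)).symm

variable (m : Fin n → ℕ)

variable (R) in
/-- the standard cover of the model -/
noncomputable def cover : ((k : Fin n) → Fin (m k) → Rn R n) →ₗ[Rn R n]
    ((k : Fin n) → Fin (m k) → Oi R n ((k : ℕ) + 1)) :=
  LinearMap.pi fun k => LinearMap.pi fun j =>
    (Submodule.mkQ (Ideal.span {z R n ^ ((k : ℕ) + 1)})) ∘ₗ LinearMap.proj j ∘ₗ LinearMap.proj k

omit [IsDomain R] in
lemma cover_surjective : Function.Surjective (cover R m) := fun q => by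
  choose v hv using fun k j => Submodule.Quotient.mk_surjective _ (q k j)
  exact ⟨v, funext fun k => funext fun j => hv k j⟩

omit [IsDomain R] in
lemma mem_of_cover_eq_zero {v} (h : cover R m v = 0) (k : Fin n) (j : Fin (m k)) :
    v k j ∈ Ideal.span {z R n ^ ((k : ℕ) + 1)} :=
  (Submodule.Quotient.mk_eq_zero _).mp (congrFun (congrFun h k) j)

/-- kernel of the standard cover -/
noncomputable def kerCoverEquiv : LinearMap.ker (cover R m) ≃ₗ[Rn R n] QFModel R n (revType n m) :=
  ({ toFun := fun v k j => ⟨v.1 k j, mem_of_cover_eq_zero m (LinearMap.mem_ker.mp v.2) k j⟩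
     map_add' := fun _ _ => rfl
     map_smul' := fun _ _ => rfl
     invFun := fun w => ⟨fun k j => (w k j).1, LinearMap.mem_ker.mpr
      (funext fun k => funext fun j => (Submodule.Quotient.mk_eq_zero _).mpr (w k j).2)⟩
     left_inv := fun _ => rfl
     right_inv := fun _ => rfl } :
    LinearMap.ker (cover R m) ≃ₗ[Rn R n]
      ((k : Fin n) → Fin (m k) → ↥(Ideal.span {z R n ^ ((k : ℕ) + 1)})))
    ≪≫ₗ LinearEquiv.piCongrRight (fun k => LinearEquiv.piCongrRight fun _ => spanEquiv _ k.2)
    ≪≫ₗ revEquiv m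

theorem ker_isQuasiFree {M : Type u} [AddCommGroup M] [Module (Rn R n) M]
    (hM : IsQuasiFreeOfType R n M m) (r : ℕ) (φ : (Fin r → Rn R n) →ₗ[Rn R n] M)
    (hφ : Function.Surjective φ)
    (hφz : ∀ f : Fin r → Rn R n, φ f ∈ filt R n M 1 → f ∈ filt R n (Fin r → Rn R n) 1) :
    IsQuasiFreeOfType R n ↥(LinearMap.ker φ) (revType n m) := by
  obtain ⟨e0⟩ := hM
  let e := e0 ≪≫ₗ QFModel.equivPi R n m
  obtain ⟨α, hα⟩ := Module.projective_lifting_property (cover R m) (e.toLinearMap ∘ₗ φ) (cover_surjective m)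
  have hα' : ∀ f, cover R m (α f) = e (φ f) := LinearMap.congr_fun hα
  have hker : ∀ v, cover R m v = 0 → v ∈ filt R n ((k : Fin n) → Fin (m k) → Rn R n) 1 := fun v hv => by
    choose c hc using fun k j => Ideal.mem_span_singleton'.mp (mem_of_cover_eq_zero m hv k j)
    refine mem_filt.mpr ⟨fun k j => c k j * z R n ^ (k : ℕ), funext fun k => funext fun j => ?_⟩
    show z R n ^ 1 * (c k j * z R n ^ (k : ℕ)) = v k j
    rw [← hc k j]
    ring
  have hsurj : Function.Surjective α := by
    rw [← LinearMap.range_eq_top]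
    refine eq_top_of_add_filt fun v => ?_
    obtain ⟨f, hf⟩ := hφ (e.symm (cover R m v))
    exact ⟨α f, LinearMap.mem_range_self α f, hker _ ((map_sub (cover R m) v (α f)).trans
      (sub_eq_zero_of_eq ((hα' f).trans (by rw [hf, e.apply_symm_apply])).symm))⟩
  obtain ⟨s, hs⟩ := Module.projective_lifting_property α LinearMap.id hsurj
  have hinj : Function.Injective α := by
    rw [injective_iff_map_eq_zero]
    intro x hx
    have hstep : ∀ i : ℕ, ∀ x, α x = 0 → ∃ y, α y = 0 ∧ z R n ^ i • y = x := by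
      intro i
      induction i with
      | zero => exact fun x hx => ⟨x, hx, by simp⟩
      | succ i ih =>
        intro x hx
        obtain ⟨y, hy, rfl⟩ := ih x hx
        have hφy : φ y = 0 := e.injective (by rw [← hα', hy, map_zero, map_zero])
        obtain ⟨w, hw⟩ := mem_filt.mp (hφz y (by rw [hφy]; exact zero_mem _))
        refine ⟨w - s (α w), ?_, ?_⟩
        · rw [map_sub, show α (s (α w)) = α w from LinearMap.congr_fun hs (α w), sub_self]
        · have h1 : z R n ^ 1 • α w = 0 := by rw [← map_smul, hw, hy]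
          rw [pow_succ]
          refine (mul_smul (z R n ^ i) (z R n) (w - s (α w))).trans ?_
          rw [← hw, pow_one, smul_sub (z R n) w, ← map_smul s]
          rw [pow_one] at h1
          rw [h1, map_zero, sub_zero]
    obtain ⟨y, -, rfl⟩ := hstep n x hx
    exact smul_eq_zero_of_left (z_pow_eq_zero (R := R) (n := n)) y
  let ε := LinearEquiv.ofBijective α ⟨hinj, hsurj⟩
  have hmap : (LinearMap.ker φ).map ε.toLinearMap = LinearMap.ker (cover R m) := by
    ext v
    constructor
    · rintro ⟨f, hf, rfl⟩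
      show cover R m (α f) = 0
      rw [hα', LinearMap.mem_ker.mp hf, map_zero]
    · intro hv
      refine ⟨ε.symm v, ?_, ε.apply_symm_apply v⟩
      apply e.injective
      rw [map_zero, ← hα']
      show cover R m (ε (ε.symm v)) = 0
      rw [ε.apply_symm_apply]
      exact hv
  exact ⟨ε.submoduleMap (LinearMap.ker φ) ≪≫ₗ LinearEquiv.ofEq _ _ hmap ≪≫ₗ kerCoverEquiv m⟩

end Groth.Agent.Mult.QF
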